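
import Groth.Agent.PnDualLib.Embed
import Groth.Agent.CurvLib.Divisor
import Groth.Agent.BlowPtLib.Plane
import Groth.Agent.IntMultLib.Cartier

/-!
# Cohomology and thickenings of an ample divisor over a field
-/

set_option autoImplicit false
set_option linter.style.haveILetI false
set_option backward.isDefEq.respectTransparency false
universe u

open CategoryTheory CategoryTheory.Limits CategoryTheory.Abelian AlgebraicGeometry
open SerreVanLib

noncomputable section

namespace LefFieldLib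

variable {X : Scheme.{u}} {S : ShortComplex X.Modules}

theorem injective_map_g (hS : S.ShortExact) {i : ℕ} (h : Subsingleton (Coh.HH X S.X₁ i)) :
    Function.Injective (Sheaf.H.map ((SheafOfModules.toSheaf X.ringCatSheaf).map S.g) i) := by
  rw [injective_iff_map_eq_zero]
  intro x hx
  apply (QCohLib.hEquiv ((QCohLib.toAbF X).obj S.X₂) i).injective
  have hx' := QCohLib.hEquiv_map ((QCohLib.toAbF X).map S.g) i x
  replace hx' := hx'.symm.trans ((congrArg (QCohLib.hEquiv ((QCohLib.toAbF X).obj S.X₃) i) hx).trans (map_zero _))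
  have hS' : (S.map (QCohLib.toAbF X)).ShortExact := QCohLib.toAbF_shortExact hS
  obtain ⟨z, hz⟩ := Ext.covariant_sequence_exact₂ (QCohLib.zsh ⊤) hS' _ hx'
  haveI : Subsingleton (Sheaf.H ((QCohLib.toAbF X).obj S.X₁) i) := h
  haveI : Subsingleton (QCohLib.HU (S.map (QCohLib.toAbF X)).X₁ i ⊤) :=
    (QCohLib.hEquiv ((QCohLib.toAbF X).obj S.X₁) i).symm.injective.subsingleton
  rw [Subsingleton.elim z 0, Ext.zero_comp] at hz
  rw [map_zero]
  exact hz.symm

theorem surjective_map_g (hS : S.ShortExact) {i : ℕ} (h : Subsingleton (Coh.HH X S.X₁ (i + 1))) :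
    Function.Surjective (Sheaf.H.map ((SheafOfModules.toSheaf X.ringCatSheaf).map S.g) i) := fun x => by
  have hS' : (S.map (QCohLib.toAbF X)).ShortExact := QCohLib.toAbF_shortExact hS
  haveI : Subsingleton (Sheaf.H ((QCohLib.toAbF X).obj S.X₁) (i + 1)) := h
  haveI : Subsingleton (QCohLib.HU (S.map (QCohLib.toAbF X)).X₁ (i + 1) ⊤) :=
    (QCohLib.hEquiv ((QCohLib.toAbF X).obj S.X₁) (i + 1)).symm.injective.subsingleton
  obtain ⟨z, hz⟩ := Ext.covariant_sequence_exact₃ (QCohLib.zsh ⊤) hS'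
    (QCohLib.hEquiv ((QCohLib.toAbF X).obj S.X₃) i x) rfl (Subsingleton.elim _ _)
  refine ⟨(QCohLib.hEquiv ((QCohLib.toAbF X).obj S.X₂) i).symm z, ?_⟩
  apply (QCohLib.hEquiv ((QCohLib.toAbF X).obj S.X₃) i).injective
  refine (QCohLib.hEquiv_map ((QCohLib.toAbF X).map S.g) i _).trans ?_
  rw [AddEquiv.apply_symm_apply]
  exact hz

/-- Cohomology below the depth is that of a thickening of an ample divisor. -/
theorem exists_bound (k : Type u) [Field k] [X.Over (Spec (CommRingCat.of k))]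
    [IsProper (X ↘ (Spec (CommRingCat.of k)))] (𝓘 : X.IdealSheafData) {L : X.Modules}
    (hL : ClSub.IsInverseOf L (ClSub.idealMod 𝓘)) (hamp : CohB1.IsAmple L) (n : ℕ)
    (hdepth : ∀ x : X, IsClosed ({x} : Set X) → (n : ℕ∞) < LocCoh.depth (X.presheaf.stalk x) (X.presheaf.stalk x)) :
    ∃ m₀ : ℕ, ∀ m : ℕ, m₀ ≤ m →
      (∀ i : ℕ, i < n → Function.Bijective (Sheaf.H.map ((SheafOfModules.toSheaf X.ringCatSheaf).map
        (ClSub.toSubscheme (𝓘 ^ (m + 1)))) i)) ∧
      Function.Injective (Sheaf.H.map ((SheafOfModules.toSheaf X.ringCatSheaf).map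
        (ClSub.toSubscheme (𝓘 ^ (m + 1)))) n) := by
  haveI : IsNoetherian X := CurvLib.isNoetherian k (X := X)
  have hI : BlowUp.IsEffCartierIdeal 𝓘 := IntMultLib.isEffCartier_of_isInvertible 𝓘
    (CohCmpLib.isInvertible_of_inverse' hamp.1 hL.some)
  have hd : ∀ x : X, IsClosed ({x} : Set X) → ((n + 1 : ℕ) : ℕ∞) ≤
      LocCoh.depth (X.presheaf.stalk x) ((Coh.structureModule X).presheaf.stalk x) := fun x hx => by
    obtain ⟨e⟩ := AVAmpleLib.nonempty_stalk_structureModule X x
    refine le_of_le_of_eq ?_ (CommAlgDim.depth_congr e)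
    push_cast
    exact Order.add_one_le_of_lt (hdepth x hx)
  obtain ⟨m₀, hm₀⟩ := PnDualLib.exists_vanishing_ample_neg k hamp hL _
    (DevissLib.isCoh_structureModule X) (n + 1) hd
  refine ⟨m₀, fun m hm => ?_⟩
  have hS := CurvLib.idealSeq_shortExact (𝓘 ^ (m + 1))
  have hv : ∀ i, i < n + 1 → Subsingleton (Coh.HH X (CurvLib.idealSeq (𝓘 ^ (m + 1))).X₁ i) := fun i hi => by
    obtain ⟨-, ⟨e⟩⟩ := BlowPtLib.nonempty_idealMod_pow 𝓘 hI (m + 1)
    exact subsingleton_HH_of_iso (e.symm ≪≫ (HilbPolyLib.unitLeft _).symm) i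
      (hm₀ (m + 1) (by omega) i hi)
  exact ⟨fun i hi => ⟨injective_map_g hS (hv i (by omega)), surjective_map_g hS (hv (i + 1) (by omega))⟩,
    injective_map_g hS (hv n (by omega))⟩

end LefFieldLib
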